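import Cfsg.Agent.Lib.Cert.T2.T4.T

set_option autoImplicit false
set_option maxRecDepth 100000

namespace Cfsg.Agent.Ct.T2.L4

open Cfsg.Agent.PC

def inv (i : ℕ) : ℕ := Nat.land (Nat.shiftRight (nat_lit 0x876542310) (Nat.mul (nat_lit 4) i)) (nat_lit 15)
def X_t : TN := (TN.leaf (nat_lit 0))
noncomputable def X (i : ℕ) : ℕ := get9 X_t (nat_lit 1) (nat_lit 1) i
def Jp_t : TN := (TN.leaf (nat_lit 0))
noncomputable def Jp (i : ℕ) : ℕ := get9 Jp_t (nat_lit 1) (nat_lit 1) i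
def J_t : TN := (TN.leaf (nat_lit 0))
noncomputable def J (k : ℕ) : ℕ := getV J_t Jp k
def Pa_t : TN := (TN.node (TN.node (TN.leaf (nat_lit 0xa26a944d1e89a2d1337a266b44c9e898ad1312a262744c1a897b512d7a25ad44b1e895bd12b5a254b44a8a894bd1265a24c74495a8913d1225a240f4481a8900511f7a23cf4479688ebd11d5a238f4471688dad11b3a23494465e88c3d1177a22eb4459e88abd1155a2289444de889b51127a222f444568883d10f7a21eb443ca8879d10e6921ad243524862c90b59212d2421e48434908492101241de483ac9067920cb2415e482ac9052920a7241164821490439206d2409e4812c9015920252404e480348ff791feb23f1647e148fc391f6f23ed647d948fb391f4b23e5a47ca48f8791f0b23e0a47bb48f6791ecd23d5a47a3c8f3691e4f23c1e478348ef791deb23bca4779c8ee691daf23b5a476a48ed091d8f23b16475bc8eb591d4f23a96474bc8e9591d2523a4e4742c8e8291d07239da473348e5691c8d238da471248e1791c2d23852470848e0791c0b237de46fac8de791bcb2375e46eac8dd291ba72371a46d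a48da791b4d2369246d048d9791b2b2361e46c2c8d7791aeb2359e46b2c8d6291ac72355646a9c8d4691a6f2349e4692c8d1791a2b23316465bc8cb591965232ce465348c879190b2320a4641c8c76918e92319e463348c57918ab2311a461bc8c359184d2305e460ac8c13917ed22f0245d2c8b959170d22dde45bac8b72916e722d9a45ab48b479166f22bde457ac8af2915e722b9a456b48ac29158722a9a455248a959150b2299a452bc8a55914a52294e452348a369144d227de44fac89f2913e72279a44eb489b79136b226ca44d9c89a69132d2261e04aac0952812a70251a0493c0925812450248e048b4090681209023da0473408e4811ad0230a0461c08b68114d022520443c08868110902202043bc0875810cf02196042bc08558108d020de041ac0832810670209a040b408068100101fde03fac07e780fcb01f5e03eac07d280fa701f1a03db407a780f2f01e5603c94079380f0d01dda03ab4074780e8b01d0a03a1c072580e2b01c1603814070380ded01bd20371c06d680d8f01b160361c06a780d4d01a1e03434067680ccf019560322c063580c65018ce03134062580c2d018520303c06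0280c07017da02f2c05d480b8d0169e02d2c059680b0f015d602b94057380acd0159602ab4055480a8f0151602a14054380a6d014d20293c052680a2d014520283c0506709ece1395c26b384d47098ee1319c260384b77096ae129dc252b84967090ee1215c23bb8475708e4e11cdc23338465708ace1151c223b844570884e110dc21b384347084ee1099c20b384147080ee1019c1f3b83e67078ae0f09c1e1b83b67074ee0e99c1c3b8386706eee0dd5c1abb83557068ee0d15c1a1383437066ce0cd1c193b83267060ee0c19c17bb82f5705e4e0bcdc173b82e6705ace0b51c163b82c67056ee0ad5c153b82a56050ec0a19813bb0275604e4c09cd8133b0266604acc09518123b02466046ec08d58113b02256042ec08558103b01f6603cec079580ebb01d5603a4c071d80e3301b66034ec069580b3b0165602acc055180a3b014560284c050d409ba81355024ca0491408ba811550224a044d408328104501eea03d94073280e4501aea03594063a80c550186a02d14053a80a6401288021d004320077400ea8019d0032a00564008e80114c01b9803530064600ccc013980262002c40050400380000))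 (TN.leaf (nat_lit 0xea6afd4d4ba9a9f5332ea667d4c9ba989f5306ea5efd4bd7a979752f3ea58dd4a0ba92b6d1b6da34fb468b68d1ed197da30fb461768b3ed165da28bb450f68936d116da207b43df68736d0d6da165b425b6821ed036da04db405b68036cff6d9fafb3f5767e96cfd3d9f8db3edb67d36cf96d9dafb3b576762ecea7d9d4bb3a8b6751ece96d9cedb395b6723ece43d9c6db385b67036cde6d9b8db36df66daecda6d9b2db35df66baecd66d9a85b350f669b6cd22d9a25b344f66836ccf6d99cdb331b664b6cc47d986db301b65f36cbd6d9727b2e1b65a36cb26d95edb2a1b653b6ca32d942db279b64db6c996d9301b25df64baec967d92cbb251f64a2ec942d9287b249b647b6c8d6d918db229b644b6c877d90ebb21cb6439ec866d908db20db6413ec7b2d8f67b1e5b63c36c776d8ec9b1d5f63a3ec6e7d8dc5b1b8f636bec6d5d8da5b1b4f6361ec6b6d8d69b1a9f6352ec6a2d8d47b1a5f634b6c686d8ccfb199b6323ec646d8c4fb189b630b6c5d5d8ba5b174f62e36c5a6d8b0fb15df62b3ec537d8a4fb144b6289ec506d89edb139b625bec4b6d892bb111b620b6c406d8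7edb0f9f61d36c396d870fb0ddb61ba6c347d8685b0d0f619b6c326d85efb0b9b616b6c2b6d8527b099f6132ec262d84c7b095b61236c227d840db081360fb6c1f4d83adb069f60ab6c154d824db030f605b6c095d8125b024f603b6c066d80adb00df601aec033d804d8ff5f1fe9e3fc6c7f6b8fecb1fd9e3fa6c7f2b8fd9b1fab63f46c7e6d8fb9b1f63e3ec6c7d6f8fad71f53e3e96c7d0d8f9df1f33e3e47c7c0d8f7db1eebe3dd5c7b4b8f65f1ecae3d76c7ae98f59f1eb2e3d57c7aab8f49f1e9363d17c7a0f8f3d71e52e3ca2c79478f2571e49e3c86c78cd8f15f1e2ae3c47c788b8f10b1e21e3c36c780d8ef5b1de2e3bc3c776f8eedb1dd3e3b96c77298eddb1dba63b67c76a98ed1f1da363b27c764d8ec5f1d83e3b05c75cd8eb831d63e3ab6c754f8ea5b1d3363a64c74af8e91f1d1a63a27c742f8e8571d03e3a05c73e58e7cf1ceb639b6c734f8e6971cc363977c72eb8e55f1caae3945c726d8e4d31c9363924c720f8e4171c7be38f5c71af8e3571c4263865c700b8e00b1c01e37f6c6fcd8df5b1bdbe3797c6eef8ddd71bab63723c6e0d8dbdb1b7a636d6c6da98db1f1b3363664c6caf8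d91b1b1be3635c6c658d8cf1b1363616c6c0f8d75f1ad3e3586c6acf8d5971aabe3547c6a8b8d41f1a82e3502c69ed8d3d31a73e34d7c698f8d3171a5be34a7c690f8d0d71a1963433c684d8d05f1a03e33f7c67cf8cf5f19e9633d3c678d8cecb19d9e33a6c672d8ce1b19b363356c666f8ccdb199a63330c664f8cc97198be3315c660f8cc17197be32f5c65e58cbcf1973632e4c65ad8cb1f1962e32c2c65878cadb192363237c64658c8cf190b63214c63ef8c79f18f2e31d7c63ab8c74b18e9e31c6c636d8c65b18c363177c62cd8c59318abe3147c626f8c4d71893e3125c622f8c4571883e3105c61af8c2db185363076c60e98c1c31823e3037c606b8c05f180ae3007c600b8c00b17fb62fe3c5fad8bf1b17e262fb7c5f6d8bed317d862fa7c5f2f8be5717bbe2f75c5ee58bdcf17b3e2f57c5e6f8bcd7178be2f15c5def8bbd7177362ec2c5d878badb173be2e66c5caf8b94b171362e24c5c2f8b81f16fbe2da5c5b2d8b65316bb62d66))) (TN.node (TN.leaf (nat_lit 0xc5aaf8b55ad68b5acf7b59ad6b352d6635acc4b59816b2ded65adaca7b594b6b25ad6315ac63b586f6b0d6d613d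ac25b58456b08ed603dac05b58056b00ed5fb5abe6b57af6aedad5d35ab87b570b6ae0ad5c1dab77b56eb6adcad5ab5ab37b566b6accad599dab26b560f6ac16d5815ab03b55ed6ab9ad56b5aab7b556d6aa9ad53b5aa67b548f6a89ed4eb5a9a6b532f6a64ed4ab5a945b524d6a492d48bda916b52296a442d483da905b51ef6a3d6d46bda8d5b518f6a316d4615a8c3b516f6a2d6d4595a8b3b512f6a256d442da882b51076a19ed4315a863b50af6a156d4295a853b508d6a112d413da806b4fef69fdad3f35a7d7b4fad69e1ad3bb5a756b4e6f69cd6d3995a733b4e4d69c1ad3735a6b5b4d2f699dad3325a657b4c8b698dad31a5a615b4c256984ed302da5f6b4be96979ed2e3da5c6b4b6d6969ed2d35a587b4b0d695ded2b3da565b4aad694dad29a5a527b4a2f693ded26bda4d3b494d6919ad2325a445b48696909ed211da415b480d69012d1fbda3f2b47e768f9ed1f35a3d6b478f68edad1d3da397b472b68e4ad1c9da386b468b68c5ed17bda2d6b458f68b16d1615a2c3b456d68a9ad14bda296b44eb68812d1005a1e5b438d686ded0dada1b2b43676869ad0cb5a194b430d68612d0c05a177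b42eb6859ed0b2da157b42ab6854ad0a9da146b426d6849ed092da116b420b683d6d0795a0f3b418f682cad059da0a5b412d68252d043da085b41056820ed03b5a074b40cf6819ad023da027b404d6801ed002da002b400767fdacff359fd6b3f8d67edecfdb59f85b3eeb67d56cfa259f37b3e6b67ccacf99d9f26b3e2d67c1ecf8359ef6b3d0f679dacf3a59e67b3ccb6798acf31d9e57b3cad6791acf1b59e27b3c4d6781ecf0359de7b3bcd67716cedad9da6b3b496761acec259d77b3aed6751ecea359d35b3a496745ece8ad9d12b3a276741ace8259cf6b39cf67312ce5bd9cb6b394f6725ece4ad9c85b39056720e8e3ad1c35a384d470928e0bd1c15a38254704e8e03d1c06a37ef46fda8df351bd6a378d46eda8dcbd1b96a370f46dde8db351b64a36ab46d168d9ad1b16a360d46b968d6ad1ab7a356d46ad28d33d1a66a34c94695e8d2ad1a47a348b468968d11d1a16a33ef467c28cf3d19e5a33af467568cdad19a7a334b4661e8cc2d1964a32af464de8c9b51927a324b4645e8c82d1902a32074639e8c72d18e2a31c74635e8c6b518c6a316d4629e8c5351896a310f4621a8c3351847a308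d461128c2051837a306b4609e8c12d1805a2fcb45f568be3d17c5a2f6b45e9e8bd2d1795a2f0d45e128bb9d1767a2ecd45d5e8bab51746a2e8945cde8b9b51726a2e4945c5e8b8b51704a2def45bda8b73516e4a2daf45b528b63d16c5a2d6f45ad68b53d16a5a2d4545a8e8b4ad1684a2cef459ca8b39d1667a2ccd4595e8b2b51646a2c89458de8b1b51626a2c494585e8b0b51604a2bef457da8af2515d7a2bad457528ae3d15c5a2b6f456d68ad351595a2b0f456168ac151583a2aed455d28ab351557a2a8d454de8a83d1506a29ef4539e8a72d14d7a298d452da8a53d14a5a292f452568a43d1485a29054520e8a3b51475a28cd451928a2bd1455a28a54514e8a2351444a286f450da8a12d1423a282d4501e89fbd13f5a27cd44f9289ebd13d6a278f44f1689dbd13b5a26ef44dd689abd1356)) (TN.leaf (nat_lit 0xebc05d745fae4175bd6eb60fd6c0bad7af5ad5eb1afd634bac5b75862eb02fd604fac01757f5eafc9d5f53abe275784eae85d5cdbab8a75705eadcdd5b5fab63f56b6ead2dd5a1fab42f5682ead07d59dbab32f55f6eabcdd575baadb75577eaae5d55cfaaab75545eaa85d54dbaa73754d7ea9a5d528baa51f5496ea8efd510baa1175423ea7a9d4f1fa9c375377ea6ebd4dcba9b9f5366))))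
noncomputable def Pa (i : ℕ) : ℕ := get9 Pa_t (nat_lit 19) (nat_lit 524287) i
def W_t1 : TL := (TL.node (TL.node (TL.node (TL.node (TL.node (TL.node (TL.leaf [nat_lit 6, nat_lit 1, nat_lit 3, nat_lit 3]) (TL.leaf [nat_lit 38952, nat_lit 7, nat_lit 6, nat_lit 5, nat_lit 6, nat_lit 5, nat_lit 7, nat_lit 6, nat_lit 5, nat_lit 7, nat_lit 6, nat_lit 5, nat_lit 6, nat_lit 7, nat_lit 2, nat_lit 6, nat_lit 5, nat_lit 6, nat_lit 4, nat_lit 7, nat_lit 6, nat_lit 2, nat_lit 6, nat_lit 5, nat_lit 6, nat_lit 5, nat_lit 6, nat_lit 5, nat_lit 2, nat_lit 6, nat_lit 5, nat_lit 6, nat_lit 5, nat_lit 6, nat_lit 5, nat_lit 6, nat_lit 5, nat_lit 3, nat_lit 0])) (TL.leaf [nat_lit 18437, nat_lit 6, nat_lit 4, nat_lit 6, nat_lit 1])) (TL.node (TL.leaf [nat_lit 16388, nat_lit 2, nat_lit 6, nat_lit 3, nat_lit 6, nat_lit 3, nat_lit 6]) (TL.leaf [nat_lit 36891, nat_lit 6, nat_lit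 4, nat_lit 7, nat_lit 5, nat_lit 4, nat_lit 6, nat_lit 5, nat_lit 6, nat_lit 5, nat_lit 6, nat_lit 2, nat_lit 5, nat_lit 7, nat_lit 4, nat_lit 6, nat_lit 5, nat_lit 7, nat_lit 6, nat_lit 3, nat_lit 5, nat_lit 7, nat_lit 6, nat_lit 5, nat_lit 6, nat_lit 5]))) (TL.node (TL.node (TL.leaf [nat_lit 2051, nat_lit 0, nat_lit 3, nat_lit 0, nat_lit 2]) (TL.leaf [nat_lit 12300, nat_lit 5, nat_lit 2, nat_lit 0, nat_lit 4, nat_lit 5, nat_lit 4])) (TL.node (TL.leaf [nat_lit 26627, nat_lit 7, nat_lit 4, nat_lit 7, nat_lit 4, nat_lit 7, nat_lit 4, nat_lit 7, nat_lit 4]) (TL.leaf [nat_lit 38925, nat_lit 7, nat_lit 6, nat_lit 5, nat_lit 6, nat_lit 7, nat_lit 5, nat_lit 6, nat_lit 7, nat_lit 5, nat_lit 6, nat_lit 5, nat_lit 6, nat_lit 7, nat_lit 0, nat_lit 2, nat_lit 5, nat_lit 6, nat_lit 5, nat_lit 6, nat_lit 5, nat_lit 6, nat_lit 5, nat_lit 6, nat_lit 3, nat_lit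 5, nat_lit 6, nat_lit 5, nat_lit 6, nat_lit 5, nat_lit 6, nat_lit 3, nat_lit 6, nat_lit 7, nat_lit 4, nat_lit 6, nat_lit 5, nat_lit 6, nat_lit 3])))) (TL.node (TL.node (TL.node (TL.leaf [nat_lit 34836, nat_lit 5, nat_lit 3, nat_lit 6, nat_lit 7, nat_lit 4, nat_lit 7, nat_lit 6, nat_lit 3, nat_lit 5, nat_lit 6, nat_lit 7, nat_lit 4, nat_lit 7, nat_lit 6, nat_lit 7]) (TL.leaf [nat_lit 40973, nat_lit 6, nat_lit 5, nat_lit 6, nat_lit 7, nat_lit 6, nat_lit 7, nat_lit 5, nat_lit 6, nat_lit 7, nat_lit 6, nat_lit 5, nat_lit 6, nat_lit 7, nat_lit 4, nat_lit 6, nat_lit 5, nat_lit 6, nat_lit 7, nat_lit 4, nat_lit 6, nat_lit 5, nat_lit 6, nat_lit 7])) (TL.node (TL.leaf [nat_lit 36887, nat_lit 6, nat_lit 5, nat_lit 6, nat_lit 4, nat_lit 7, nat_lit 5, nat_lit 4, nat_lit 6, nat_lit 5, nat_lit 6, nat_lit 5, nat_lit 6, nat_lit 2, nat_lit 5, nat_lit 7, nat_lit 4, nat_lit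 6, nat_lit 5, nat_lit 7, nat_lit 6, nat_lit 3, nat_lit 5, nat_lit 7, nat_lit 6, nat_lit 5]) (TL.leaf [nat_lit 38929, nat_lit 5, nat_lit 6, nat_lit 7, nat_lit 5, nat_lit 6, nat_lit 7, nat_lit 5, nat_lit 6, nat_lit 5, nat_lit 6, nat_lit 7, nat_lit 0, nat_lit 2, nat_lit 5, nat_lit 6, nat_lit 5, nat_lit 6, nat_lit 5, nat_lit 6, nat_lit 5, nat_lit 6, nat_lit 3, nat_lit 5, nat_lit 6, nat_lit 5, nat_lit 6, nat_lit 5, nat_lit 6, nat_lit 3, nat_lit 6, nat_lit 7, nat_lit 4, nat_lit 6, nat_lit 5, nat_lit 6, nat_lit 3, nat_lit 7, nat_lit 6]))) (TL.node (TL.node (TL.leaf [nat_lit 10247, nat_lit 1, nat_lit 0, nat_lit 5, nat_lit 0, nat_lit 5]) (TL.leaf [nat_lit 20501, nat_lit 5, nat_lit 6, nat_lit 3, nat_lit 5, nat_lit 6, nat_lit 5, nat_lit 6, nat_lit 5, nat_lit 6, nat_lit 5, nat_lit 6, nat_lit 5, nat_lit 2, nat_lit 6, nat_lit 5, nat_lit 6, nat_lit 3, nat_lit 5,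 nat_lit 6, nat_lit 5, nat_lit 6, nat_lit 5, nat_lit 6, nat_lit 5, nat_lit 6, nat_lit 2, nat_lit 5, nat_lit 6])) (TL.node (TL.leaf [nat_lit 34829, nat_lit 7, nat_lit 6, nat_lit 7, nat_lit 4, nat_lit 7, nat_lit 6, nat_lit 5, nat_lit 2, nat_lit 6, nat_lit 7, nat_lit 4, nat_lit 7, nat_lit 6, nat_lit 2, nat_lit 5]) (TL.leaf [nat_lit 38973, nat_lit 5, nat_lit 6, nat_lit 5, nat_lit 6, nat_lit 5, nat_lit 6, nat_lit 3, nat_lit 6, nat_lit 7, nat_lit 4, nat_lit 6, nat_lit 5, nat_lit 6, nat_lit 3, nat_lit 7, nat_lit 6, nat_lit 5, nat_lit 6, nat_lit 7, nat_lit 5, nat_lit 6, nat_lit 7, nat_lit 5, nat_lit 6, nat_lit 5, nat_lit 6, nat_lit 7, nat_lit 0, nat_lit 2, nat_lit 5, nat_lit 6, nat_lit 5, nat_lit 6, nat_lit 5, nat_lit 6, nat_lit 5, nat_lit 6, nat_lit 3]))))) (TL.node (TL.node (TL.node (TL.node (TL.leaf [nat_lit 18435, nat_lit 1, nat_lit 6, nat_lit 4, nat_lit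 6]) (TL.leaf [nat_lit 36906, nat_lit 7, nat_lit 5, nat_lit 6, nat_lit 4, nat_lit 7, nat_lit 5, nat_lit 3, nat_lit 6, nat_lit 5, nat_lit 6, nat_lit 5, nat_lit 6, nat_lit 4, nat_lit 5, nat_lit 7, nat_lit 4, nat_lit 6, nat_lit 5, nat_lit 6, nat_lit 5, nat_lit 6, nat_lit 7, nat_lit 5, nat_lit 2, nat_lit 6])) (TL.node (TL.leaf [nat_lit 34839, nat_lit 6, nat_lit 5, nat_lit 2, nat_lit 6, nat_lit 7, nat_lit 4, nat_lit 7, nat_lit 6, nat_lit 2, nat_lit 5, nat_lit 7, nat_lit 6, nat_lit 7, nat_lit 4, nat_lit 7]) (TL.leaf [nat_lit 38972, nat_lit 5, nat_lit 6, nat_lit 7, nat_lit 2, nat_lit 6, nat_lit 5, nat_lit 6, nat_lit 4, nat_lit 7, nat_lit 6, nat_lit 2, nat_lit 6, nat_lit 5, nat_lit 6, nat_lit 5, nat_lit 6, nat_lit 5, nat_lit 2, nat_lit 6, nat_lit 5, nat_lit 6, nat_lit 5, nat_lit 6, nat_lit 5, nat_lit 6, nat_lit 5, nat_lit 3, nat_lit 0, nat_lit 7, nat_lit 6,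 nat_lit 5, nat_lit 6, nat_lit 5, nat_lit 7, nat_lit 6, nat_lit 5, nat_lit 7, nat_lit 6]))) (TL.node (TL.node (TL.leaf [nat_lit 16386, nat_lit 6, nat_lit 3, nat_lit 6, nat_lit 3, nat_lit 6, nat_lit 3]) (TL.leaf [nat_lit 12290, nat_lit 3, nat_lit 0, nat_lit 4, nat_lit 5, nat_lit 4, nat_lit 5])) (TL.node (TL.leaf [nat_lit 32774, nat_lit 7, nat_lit 6, nat_lit 7, nat_lit 6, nat_lit 7, nat_lit 6, nat_lit 7, nat_lit 6, nat_lit 0]) (TL.leaf [nat_lit 40974, nat_lit 5, nat_lit 6, nat_lit 7, nat_lit 6, nat_lit 5, nat_lit 7, nat_lit 6, nat_lit 7, nat_lit 6, nat_lit 5, nat_lit 6, nat_lit 7, nat_lit 6, nat_lit 5, nat_lit 6, nat_lit 4, nat_lit 7, nat_lit 6, nat_lit 5, nat_lit 6, nat_lit 4, nat_lit 7, nat_lit 6])))) (TL.node (TL.node (TL.node (TL.leaf [nat_lit 4097, nat_lit 0, nat_lit 4, nat_lit 0, nat_lit 4]) (TL.leaf [nat_lit 40967, nat_lit 5, nat_lit 6, nat_lit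 7, nat_lit 6, nat_lit 5, nat_lit 6, nat_lit 7, nat_lit 6, nat_lit 7, nat_lit 5, nat_lit 6, nat_lit 7, nat_lit 6, nat_lit 5, nat_lit 6, nat_lit 7, nat_lit 4, nat_lit 6, nat_lit 5, nat_lit 6, nat_lit 7, nat_lit 4, nat_lit 6])) (TL.node (TL.leaf [nat_lit 30721, nat_lit 7, nat_lit 2, nat_lit 7, nat_lit 3]) (TL.leaf [nat_lit 36914, nat_lit 7, nat_lit 5, nat_lit 3, nat_lit 6, nat_lit 5, nat_lit 6, nat_lit 5, nat_lit 6, nat_lit 4, nat_lit 5, nat_lit 7, nat_lit 4, nat_lit 6, nat_lit 5, nat_lit 6, nat_lit 5, nat_lit 6, nat_lit 7, nat_lit 5, nat_lit 2, nat_lit 6, nat_lit 7, nat_lit 5, nat_lit 6, nat_lit 4]))) (TL.node (TL.node (TL.leaf [nat_lit 6147, nat_lit 4, nat_lit 2, nat_lit 4, nat_lit 2]) (TL.leaf [nat_lit 34820, nat_lit 2, nat_lit 5, nat_lit 6, nat_lit 7, nat_lit 4, nat_lit 7, nat_lit 6, nat_lit 7, nat_lit 5, nat_lit 3, nat_lit 6, nat_lit 7, nat_lit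 4, nat_lit 7, nat_lit 6])) (TL.node (TL.leaf [nat_lit 36905, nat_lit 6, nat_lit 5, nat_lit 6, nat_lit 2, nat_lit 5, nat_lit 7, nat_lit 4, nat_lit 6, nat_lit 5, nat_lit 7, nat_lit 6, nat_lit 3, nat_lit 5, nat_lit 7, nat_lit 6, nat_lit 5, nat_lit 6, nat_lit 5, nat_lit 6, nat_lit 4, nat_lit 7, nat_lit 5, nat_lit 4, nat_lit 6, nat_lit 5]) (TL.leaf [nat_lit 36882, nat_lit 5, nat_lit 7, nat_lit 4, nat_lit 6, nat_lit 5, nat_lit 6, nat_lit 5, nat_lit 6, nat_lit 7, nat_lit 5, nat_lit 2, nat_lit 6, nat_lit 7, nat_lit 5, nat_lit 6, nat_lit 4, nat_lit 7, nat_lit 5, nat_lit 3, nat_lit 6, nat_lit 5, nat_lit 6, nat_lit 5, nat_lit 6, nat_lit 4]))))))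
def W_t2 : TL := (TL.node (TL.node (TL.node (TL.node (TL.node (TL.node (TL.leaf [nat_lit 28673, nat_lit 5, nat_lit 7, nat_lit 5, nat_lit 7]) (TL.leaf [nat_lit 38953, nat_lit 3, nat_lit 5, nat_lit 6, nat_lit 5, nat_lit 6, nat_lit 5, nat_lit 6, nat_lit 5, nat_lit 6, nat_lit 3, nat_lit 5, nat_lit 6, nat_lit 5, nat_lit 6, nat_lit 5, nat_lit 6, nat_lit 3, nat_lit 6, nat_lit 7, nat_lit 4, nat_lit 6, nat_lit 5, nat_lit 6, nat_lit 3, nat_lit 7, nat_lit 6, nat_lit 5, nat_lit 6, nat_lit 7, nat_lit 5, nat_lit 6, nat_lit 7, nat_lit 5, nat_lit 6, nat_lit 5, nat_lit 6, nat_lit 7, nat_lit 0])) (TL.leaf [nat_lit 36909, nat_lit 6, nat_lit 2, nat_lit 5, nat_lit 7, nat_lit 4, nat_lit 6, nat_lit 5, nat_lit 7, nat_lit 6, nat_lit 3, nat_lit 5, nat_lit 7, nat_lit 6, nat_lit 5, nat_lit 6, nat_lit 5, nat_lit 6, nat_lit 4, nat_lit 7, nat_lit 5, nat_lit 4, nat_lit 6, nat_lit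 5, nat_lit 6, nat_lit 5])) (TL.node (TL.leaf [nat_lit 10245, nat_lit 5, nat_lit 1, nat_lit 0, nat_lit 5, nat_lit 0]) (TL.leaf [nat_lit 12298, nat_lit 4, nat_lit 5, nat_lit 2, nat_lit 0, nat_lit 4, nat_lit 5]))) (TL.node (TL.node (TL.leaf [nat_lit 10244, nat_lit 1, nat_lit 5, nat_lit 0, nat_lit 5, nat_lit 0]) (TL.leaf [nat_lit 2053, nat_lit 2, nat_lit 0, nat_lit 2, nat_lit 0])) (TL.node (TL.leaf [nat_lit 4099, nat_lit 4, nat_lit 0, nat_lit 4, nat_lit 0]) (TL.leaf [nat_lit 40971, nat_lit 7, nat_lit 6, nat_lit 5, nat_lit 6, nat_lit 7, nat_lit 6, nat_lit 7, nat_lit 5, nat_lit 6, nat_lit 7, nat_lit 6, nat_lit 5, nat_lit 6, nat_lit 7, nat_lit 4, nat_lit 6, nat_lit 5, nat_lit 6, nat_lit 7, nat_lit 4, nat_lit 6, nat_lit 5, nat_lit 6])))) (TL.node (TL.node (TL.node (TL.leaf [nat_lit 5, nat_lit 3, nat_lit 1, nat_lit 2]) (TL.leaf [nat_lit 40972, nat_lit 6, nat_lit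 5, nat_lit 6, nat_lit 7, nat_lit 6, nat_lit 5, nat_lit 7, nat_lit 6, nat_lit 7, nat_lit 6, nat_lit 5, nat_lit 6, nat_lit 7, nat_lit 6, nat_lit 5, nat_lit 6, nat_lit 4, nat_lit 7, nat_lit 6, nat_lit 5, nat_lit 6, nat_lit 4, nat_lit 7])) (TL.node (TL.leaf [nat_lit 24579, nat_lit 7, nat_lit 0, nat_lit 7, nat_lit 0]) (TL.leaf [nat_lit 20522, nat_lit 2, nat_lit 6, nat_lit 5, nat_lit 6, nat_lit 5, nat_lit 6, nat_lit 5, nat_lit 6, nat_lit 5, nat_lit 2, nat_lit 6, nat_lit 5, nat_lit 6, nat_lit 3, nat_lit 5, nat_lit 6, nat_lit 5, nat_lit 6, nat_lit 5, nat_lit 6, nat_lit 5, nat_lit 6, nat_lit 5, nat_lit 2, nat_lit 6, nat_lit 5, nat_lit 6, nat_lit 5]))) (TL.node (TL.node (TL.leaf [nat_lit 8196, nat_lit 3, nat_lit 0, nat_lit 5, nat_lit 2, nat_lit 0, nat_lit 5]) (TL.leaf [nat_lit 40966, nat_lit 6, nat_lit 4, nat_lit 7, nat_lit 6, nat_lit 5, nat_lit 6, nat_lit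 7, nat_lit 6, nat_lit 5, nat_lit 7, nat_lit 6, nat_lit 7, nat_lit 6, nat_lit 5, nat_lit 6, nat_lit 7, nat_lit 6, nat_lit 5, nat_lit 6, nat_lit 4, nat_lit 7, nat_lit 6, nat_lit 5])) (TL.node (TL.leaf [nat_lit 8197, nat_lit 5, nat_lit 0, nat_lit 3, nat_lit 5, nat_lit 0, nat_lit 3]) (TL.leaf [nat_lit 40983, nat_lit 7, nat_lit 5, nat_lit 6, nat_lit 7, nat_lit 6, nat_lit 5, nat_lit 6, nat_lit 7, nat_lit 4, nat_lit 6, nat_lit 5, nat_lit 6, nat_lit 7, nat_lit 4, nat_lit 6, nat_lit 5, nat_lit 6, nat_lit 7, nat_lit 6, nat_lit 5, nat_lit 6, nat_lit 7, nat_lit 6]))))) (TL.node (TL.node (TL.node (TL.node (TL.leaf [nat_lit 14337, nat_lit 0, nat_lit 6, nat_lit 0, nat_lit 6]) (TL.leaf [nat_lit 10241, nat_lit 5, nat_lit 0, nat_lit 5, nat_lit 1, nat_lit 0])) (TL.node (TL.leaf [nat_lit 12299, nat_lit 2, nat_lit 5, nat_lit 4, nat_lit 5, nat_lit 4, nat_lit 0]) (TL.leaf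 [nat_lit 38961, nat_lit 6, nat_lit 5, nat_lit 6, nat_lit 5, nat_lit 6, nat_lit 3, nat_lit 5, nat_lit 6, nat_lit 5, nat_lit 6, nat_lit 5, nat_lit 6, nat_lit 3, nat_lit 6, nat_lit 7, nat_lit 4, nat_lit 6, nat_lit 5, nat_lit 6, nat_lit 3, nat_lit 7, nat_lit 6, nat_lit 5, nat_lit 6, nat_lit 7, nat_lit 5, nat_lit 6, nat_lit 7, nat_lit 5, nat_lit 6, nat_lit 5, nat_lit 6, nat_lit 7, nat_lit 0, nat_lit 2, nat_lit 5, nat_lit 6, nat_lit 5]))) (TL.node (TL.node (TL.leaf [nat_lit 1, nat_lit 1, nat_lit 2, nat_lit 2]) (TL.leaf [nat_lit 40970, nat_lit 7, nat_lit 6, nat_lit 5, nat_lit 6, nat_lit 7, nat_lit 6, nat_lit 5, nat_lit 7, nat_lit 6, nat_lit 7, nat_lit 6, nat_lit 5, nat_lit 6, nat_lit 7, nat_lit 6, nat_lit 5, nat_lit 6, nat_lit 4, nat_lit 7, nat_lit 6, nat_lit 5, nat_lit 6, nat_lit 4])) (TL.node (TL.leaf [nat_lit 2049, nat_lit 3, nat_lit 0, nat_lit 3, nat_lit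 0]) (TL.leaf [nat_lit 22529, nat_lit 6, nat_lit 5, nat_lit 6, nat_lit 5, nat_lit 6, nat_lit 5, nat_lit 6, nat_lit 5, nat_lit 6, nat_lit 5, nat_lit 6, nat_lit 5, nat_lit 6, nat_lit 5, nat_lit 6, nat_lit 5, nat_lit 6, nat_lit 5, nat_lit 6, nat_lit 5, nat_lit 6, nat_lit 5, nat_lit 6, nat_lit 5, nat_lit 6, nat_lit 5])))) (TL.node (TL.node (TL.node (TL.leaf [nat_lit 28675, nat_lit 7, nat_lit 5, nat_lit 7, nat_lit 5]) (TL.leaf [nat_lit 38936, nat_lit 6, nat_lit 5, nat_lit 6, nat_lit 5, nat_lit 6, nat_lit 5, nat_lit 3, nat_lit 0, nat_lit 7, nat_lit 6, nat_lit 5, nat_lit 6, nat_lit 5, nat_lit 7, nat_lit 6, nat_lit 5, nat_lit 7, nat_lit 6, nat_lit 5, nat_lit 6, nat_lit 7, nat_lit 2, nat_lit 6, nat_lit 5, nat_lit 6, nat_lit 4, nat_lit 7, nat_lit 6, nat_lit 2, nat_lit 6, nat_lit 5, nat_lit 6, nat_lit 5, nat_lit 6, nat_lit 5, nat_lit 2, nat_lit 6, nat_lit 5]))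 (TL.node (TL.leaf [nat_lit 16385, nat_lit 3, nat_lit 6, nat_lit 2, nat_lit 6, nat_lit 2, nat_lit 6]) (TL.leaf [nat_lit 20497, nat_lit 5, nat_lit 6, nat_lit 5, nat_lit 6, nat_lit 3, nat_lit 5, nat_lit 6, nat_lit 5, nat_lit 6, nat_lit 5, nat_lit 6, nat_lit 5, nat_lit 6, nat_lit 5, nat_lit 2, nat_lit 6, nat_lit 5, nat_lit 6, nat_lit 3, nat_lit 5, nat_lit 6, nat_lit 5, nat_lit 6, nat_lit 5, nat_lit 6, nat_lit 5, nat_lit 6, nat_lit 2]))) (TL.node (TL.node (TL.leaf [nat_lit 32785, nat_lit 6, nat_lit 7, nat_lit 6, nat_lit 7, nat_lit 6, nat_lit 7, nat_lit 6, nat_lit 7, nat_lit 0]) (TL.leaf [nat_lit 38963, nat_lit 5, nat_lit 6, nat_lit 5, nat_lit 6, nat_lit 3, nat_lit 5, nat_lit 6, nat_lit 5, nat_lit 6, nat_lit 5, nat_lit 6, nat_lit 3, nat_lit 6, nat_lit 7, nat_lit 4, nat_lit 6, nat_lit 5, nat_lit 6, nat_lit 3, nat_lit 7, nat_lit 6, nat_lit 5, nat_lit 6, nat_lit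 7, nat_lit 5, nat_lit 6, nat_lit 7, nat_lit 5, nat_lit 6, nat_lit 5, nat_lit 6, nat_lit 7, nat_lit 0, nat_lit 2, nat_lit 5, nat_lit 6, nat_lit 5, nat_lit 6])) (TL.node (TL.leaf [nat_lit 12289, nat_lit 5, nat_lit 4, nat_lit 5, nat_lit 4, nat_lit 0, nat_lit 3]) (TL.leaf [nat_lit 36900, nat_lit 5, nat_lit 2, nat_lit 6, nat_lit 7, nat_lit 5, nat_lit 6, nat_lit 4, nat_lit 7, nat_lit 5, nat_lit 3, nat_lit 6, nat_lit 5, nat_lit 6, nat_lit 5, nat_lit 6, nat_lit 4, nat_lit 5, nat_lit 7, nat_lit 4, nat_lit 6, nat_lit 5, nat_lit 6, nat_lit 5, nat_lit 6, nat_lit 7]))))))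
def W_t3 : TL := (TL.node W_t1 W_t2)
def W_t4 : TL := (TL.node (TL.node (TL.node (TL.node (TL.node (TL.node (TL.leaf [nat_lit 24577, nat_lit 0, nat_lit 7, nat_lit 0, nat_lit 7]) (TL.leaf [nat_lit 20525, nat_lit 3, nat_lit 6, nat_lit 5, nat_lit 6, nat_lit 3, nat_lit 5, nat_lit 6, nat_lit 5, nat_lit 6, nat_lit 5, nat_lit 6, nat_lit 5, nat_lit 6, nat_lit 2, nat_lit 5, nat_lit 6, nat_lit 5, nat_lit 6, nat_lit 3, nat_lit 5, nat_lit 6, nat_lit 5, nat_lit 6, nat_lit 5, nat_lit 6, nat_lit 5, nat_lit 6, nat_lit 5])) (TL.leaf [nat_lit 34833, nat_lit 7, nat_lit 4, nat_lit 7, nat_lit 6, nat_lit 5, nat_lit 2, nat_lit 6, nat_lit 7, nat_lit 4, nat_lit 7, nat_lit 6, nat_lit 2, nat_lit 5, nat_lit 7, nat_lit 6])) (TL.node (TL.leaf [nat_lit 8195, nat_lit 2, nat_lit 5, nat_lit 0, nat_lit 3, nat_lit 5, nat_lit 0]) (TL.leaf [nat_lit 38927, nat_lit 6, nat_lit 5, nat_lit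 6, nat_lit 7, nat_lit 5, nat_lit 6, nat_lit 7, nat_lit 5, nat_lit 6, nat_lit 5, nat_lit 6, nat_lit 7, nat_lit 0, nat_lit 2, nat_lit 5, nat_lit 6, nat_lit 5, nat_lit 6, nat_lit 5, nat_lit 6, nat_lit 5, nat_lit 6, nat_lit 3, nat_lit 5, nat_lit 6, nat_lit 5, nat_lit 6, nat_lit 5, nat_lit 6, nat_lit 3, nat_lit 6, nat_lit 7, nat_lit 4, nat_lit 6, nat_lit 5, nat_lit 6, nat_lit 3, nat_lit 7]))) (TL.node (TL.node (TL.leaf [nat_lit 2055, nat_lit 0, nat_lit 2, nat_lit 0, nat_lit 3]) (TL.leaf [nat_lit 34835, nat_lit 4, nat_lit 7, nat_lit 6, nat_lit 5, nat_lit 2, nat_lit 6, nat_lit 7, nat_lit 4, nat_lit 7, nat_lit 6, nat_lit 2, nat_lit 5, nat_lit 7, nat_lit 6, nat_lit 7])) (TL.node (TL.leaf [nat_lit 34819, nat_lit 4, nat_lit 7, nat_lit 6, nat_lit 2, nat_lit 5, nat_lit 7, nat_lit 6, nat_lit 7, nat_lit 4, nat_lit 7, nat_lit 6, nat_lit 5, nat_lit 2, nat_lit 6, nat_lit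 7]) (TL.leaf [nat_lit 34840, nat_lit 6, nat_lit 7, nat_lit 4, nat_lit 7, nat_lit 6, nat_lit 3, nat_lit 5, nat_lit 6, nat_lit 7, nat_lit 4, nat_lit 7, nat_lit 6, nat_lit 7, nat_lit 5, nat_lit 3])))) (TL.node (TL.node (TL.node (TL.leaf [nat_lit 38970, nat_lit 6, nat_lit 5, nat_lit 6, nat_lit 7, nat_lit 2, nat_lit 6, nat_lit 5, nat_lit 6, nat_lit 4, nat_lit 7, nat_lit 6, nat_lit 2, nat_lit 6, nat_lit 5, nat_lit 6, nat_lit 5, nat_lit 6, nat_lit 5, nat_lit 2, nat_lit 6, nat_lit 5, nat_lit 6, nat_lit 5, nat_lit 6, nat_lit 5, nat_lit 6, nat_lit 5, nat_lit 3, nat_lit 0, nat_lit 7, nat_lit 6, nat_lit 5, nat_lit 6, nat_lit 5, nat_lit 7, nat_lit 6, nat_lit 5, nat_lit 7]) (TL.leaf [nat_lit 40995, nat_lit 6, nat_lit 7, nat_lit 4, nat_lit 6, nat_lit 5, nat_lit 6, nat_lit 7, nat_lit 4, nat_lit 6, nat_lit 5, nat_lit 6, nat_lit 7, nat_lit 6, nat_lit 5, nat_lit 6,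 nat_lit 7, nat_lit 6, nat_lit 7, nat_lit 5, nat_lit 6, nat_lit 7, nat_lit 6, nat_lit 5])) (TL.node (TL.leaf [nat_lit 3, nat_lit 3, nat_lit 2, nat_lit 1]) (TL.leaf [nat_lit 38930, nat_lit 3, nat_lit 6, nat_lit 5, nat_lit 6, nat_lit 5, nat_lit 6, nat_lit 5, nat_lit 6, nat_lit 5, nat_lit 3, nat_lit 0, nat_lit 7, nat_lit 6, nat_lit 5, nat_lit 6, nat_lit 5, nat_lit 7, nat_lit 6, nat_lit 5, nat_lit 7, nat_lit 6, nat_lit 5, nat_lit 6, nat_lit 7, nat_lit 2, nat_lit 6, nat_lit 5, nat_lit 6, nat_lit 4, nat_lit 7, nat_lit 6, nat_lit 2, nat_lit 6, nat_lit 5, nat_lit 6, nat_lit 5, nat_lit 6, nat_lit 5]))) (TL.node (TL.node (TL.leaf [nat_lit 10243, nat_lit 0, nat_lit 5, nat_lit 1, nat_lit 0, nat_lit 5]) (TL.leaf [nat_lit 34832, nat_lit 6, nat_lit 7, nat_lit 5, nat_lit 3, nat_lit 6, nat_lit 7, nat_lit 4, nat_lit 7, nat_lit 6, nat_lit 3, nat_lit 5, nat_lit 6, nat_lit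 7, nat_lit 4, nat_lit 7])) (TL.node (TL.leaf [nat_lit 2, nat_lit 2, nat_lit 3, nat_lit 1]) (TL.leaf [nat_lit 36871, nat_lit 5, nat_lit 7, nat_lit 6, nat_lit 3, nat_lit 5, nat_lit 7, nat_lit 6, nat_lit 5, nat_lit 6, nat_lit 5, nat_lit 6, nat_lit 4, nat_lit 7, nat_lit 5, nat_lit 4, nat_lit 6, nat_lit 5, nat_lit 6, nat_lit 5, nat_lit 6, nat_lit 2, nat_lit 5, nat_lit 7, nat_lit 4, nat_lit 6]))))) (TL.node (TL.node (TL.node (TL.node (TL.leaf [nat_lit 30727, nat_lit 2, nat_lit 7, nat_lit 2, nat_lit 7]) (TL.leaf [nat_lit 36884, nat_lit 7, nat_lit 4, nat_lit 6, nat_lit 5, nat_lit 6, nat_lit 5, nat_lit 6, nat_lit 7, nat_lit 5, nat_lit 2, nat_lit 6, nat_lit 7, nat_lit 5, nat_lit 6, nat_lit 4, nat_lit 7, nat_lit 5, nat_lit 3, nat_lit 6, nat_lit 5, nat_lit 6, nat_lit 5, nat_lit 6, nat_lit 4, nat_lit 5])) (TL.node (TL.leaf [nat_lit 34821, nat_lit 7, nat_lit 6,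 nat_lit 2, nat_lit 5, nat_lit 7, nat_lit 6, nat_lit 7, nat_lit 4, nat_lit 7, nat_lit 6, nat_lit 5, nat_lit 2, nat_lit 6, nat_lit 7, nat_lit 4]) (TL.leaf [nat_lit 36873, nat_lit 7, nat_lit 6, nat_lit 3, nat_lit 5, nat_lit 7, nat_lit 6, nat_lit 5, nat_lit 6, nat_lit 5, nat_lit 6, nat_lit 4, nat_lit 7, nat_lit 5, nat_lit 4, nat_lit 6, nat_lit 5, nat_lit 6, nat_lit 5, nat_lit 6, nat_lit 2, nat_lit 5, nat_lit 7, nat_lit 4, nat_lit 6, nat_lit 5]))) (TL.node (TL.node (TL.leaf [nat_lit 16387, nat_lit 6, nat_lit 2, nat_lit 6, nat_lit 2, nat_lit 6, nat_lit 2]) (TL.leaf [nat_lit 34825, nat_lit 3, nat_lit 5, nat_lit 7, nat_lit 6, nat_lit 7, nat_lit 4, nat_lit 7, nat_lit 6, nat_lit 5, nat_lit 2, nat_lit 6, nat_lit 7, nat_lit 4, nat_lit 7, nat_lit 6])) (TL.node (TL.leaf [nat_lit 20485, nat_lit 6, nat_lit 5, nat_lit 6, nat_lit 5, nat_lit 6, nat_lit 2, nat_lit 5,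 nat_lit 6, nat_lit 5, nat_lit 6, nat_lit 3, nat_lit 5, nat_lit 6, nat_lit 5, nat_lit 6, nat_lit 5, nat_lit 6, nat_lit 5, nat_lit 6, nat_lit 5, nat_lit 2, nat_lit 6, nat_lit 5, nat_lit 6, nat_lit 3, nat_lit 5, nat_lit 6, nat_lit 5]) (TL.leaf [nat_lit 34824, nat_lit 6, nat_lit 7, nat_lit 4, nat_lit 7, nat_lit 6, nat_lit 7, nat_lit 5, nat_lit 3, nat_lit 6, nat_lit 7, nat_lit 4, nat_lit 7, nat_lit 6, nat_lit 3, nat_lit 5])))) (TL.node (TL.node (TL.node (TL.leaf [nat_lit 6145, nat_lit 3, nat_lit 4, nat_lit 2, nat_lit 4]) (TL.leaf [nat_lit 40969, nat_lit 6, nat_lit 7, nat_lit 6, nat_lit 5, nat_lit 6, nat_lit 7, nat_lit 6, nat_lit 7, nat_lit 5, nat_lit 6, nat_lit 7, nat_lit 6, nat_lit 5, nat_lit 6, nat_lit 7, nat_lit 4, nat_lit 6, nat_lit 5, nat_lit 6, nat_lit 7, nat_lit 4, nat_lit 6, nat_lit 5])) (TL.node (TL.leaf [nat_lit 30725, nat_lit 7, nat_lit 3, nat_lit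 7, nat_lit 2]) (TL.leaf [nat_lit 36885, nat_lit 5, nat_lit 6, nat_lit 5, nat_lit 6, nat_lit 4, nat_lit 7, nat_lit 5, nat_lit 4, nat_lit 6, nat_lit 5, nat_lit 6, nat_lit 5, nat_lit 6, nat_lit 2, nat_lit 5, nat_lit 7, nat_lit 4, nat_lit 6, nat_lit 5, nat_lit 7, nat_lit 6, nat_lit 3, nat_lit 5, nat_lit 7, nat_lit 6]))) (TL.node (TL.node (TL.leaf [nat_lit 12291, nat_lit 4, nat_lit 5, nat_lit 4, nat_lit 0, nat_lit 3, nat_lit 5]) (TL.leaf [nat_lit 20533, nat_lit 2, nat_lit 5, nat_lit 6, nat_lit 5, nat_lit 6, nat_lit 5, nat_lit 6, nat_lit 5, nat_lit 6, nat_lit 2, nat_lit 5, nat_lit 6, nat_lit 5, nat_lit 6, nat_lit 3, nat_lit 5, nat_lit 6, nat_lit 5, nat_lit 6, nat_lit 5, nat_lit 6, nat_lit 5, nat_lit 6, nat_lit 5, nat_lit 2, nat_lit 6, nat_lit 5, nat_lit 6])) (TL.node (TL.leaf [nat_lit 10246, nat_lit 5, nat_lit 0, nat_lit 5, nat_lit 0, nat_lit 1]) (TL.leaf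 [nat_lit 34827, nat_lit 5, nat_lit 7, nat_lit 6, nat_lit 7, nat_lit 4, nat_lit 7, nat_lit 6, nat_lit 5, nat_lit 2, nat_lit 6, nat_lit 7, nat_lit 4, nat_lit 7, nat_lit 6, nat_lit 2]))))))
def W_t5 : TL := (TL.node (TL.node (TL.node (TL.node (TL.node (TL.node (TL.leaf [nat_lit 30723, nat_lit 3, nat_lit 7, nat_lit 3, nat_lit 7]) (TL.leaf [nat_lit 20535, nat_lit 5, nat_lit 6, nat_lit 5, nat_lit 6, nat_lit 5, nat_lit 6, nat_lit 5, nat_lit 6, nat_lit 2, nat_lit 5, nat_lit 6, nat_lit 5, nat_lit 6, nat_lit 3, nat_lit 5, nat_lit 6, nat_lit 5, nat_lit 6, nat_lit 5, nat_lit 6, nat_lit 5, nat_lit 6, nat_lit 5, nat_lit 2, nat_lit 6, nat_lit 5, nat_lit 6, nat_lit 3])) (TL.leaf [nat_lit 36888, nat_lit 6, nat_lit 5, nat_lit 6, nat_lit 5, nat_lit 6, nat_lit 7, nat_lit 5, nat_lit 2, nat_lit 6, nat_lit 7, nat_lit 5, nat_lit 6, nat_lit 4, nat_lit 7, nat_lit 5, nat_lit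 3, nat_lit 6, nat_lit 5, nat_lit 6, nat_lit 5, nat_lit 6, nat_lit 4, nat_lit 5, nat_lit 7, nat_lit 4])) (TL.node (TL.leaf [nat_lit 32771, nat_lit 6, nat_lit 7, nat_lit 6, nat_lit 7, nat_lit 6, nat_lit 7, nat_lit 0, nat_lit 6, nat_lit 7]) (TL.leaf [nat_lit 40984, nat_lit 7, nat_lit 6, nat_lit 7, nat_lit 6, nat_lit 5, nat_lit 6, nat_lit 7, nat_lit 6, nat_lit 5, nat_lit 6, nat_lit 4, nat_lit 7, nat_lit 6, nat_lit 5, nat_lit 6, nat_lit 4, nat_lit 7, nat_lit 6, nat_lit 5, nat_lit 6, nat_lit 7, nat_lit 6, nat_lit 5]))) (TL.node (TL.node (TL.leaf [nat_lit 12293, nat_lit 5, nat_lit 4, nat_lit 0, nat_lit 3, nat_lit 5, nat_lit 4]) (TL.leaf [nat_lit 10242, nat_lit 0, nat_lit 1, nat_lit 5, nat_lit 0, nat_lit 5])) (TL.node (TL.leaf [nat_lit 10249, nat_lit 0, nat_lit 5, nat_lit 0, nat_lit 5, nat_lit 1]) (TL.leaf [nat_lit 36902, nat_lit 3, nat_lit 6, nat_lit 7,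 nat_lit 5, nat_lit 6, nat_lit 4, nat_lit 7, nat_lit 5, nat_lit 3, nat_lit 6, nat_lit 5, nat_lit 6, nat_lit 5, nat_lit 6, nat_lit 4, nat_lit 5, nat_lit 7, nat_lit 4, nat_lit 6, nat_lit 5, nat_lit 6, nat_lit 5, nat_lit 6, nat_lit 7, nat_lit 5])))) (TL.node (TL.node (TL.node (TL.leaf [nat_lit 4, nat_lit 2, nat_lit 1, nat_lit 3]) (TL.leaf [nat_lit 40975, nat_lit 5, nat_lit 6, nat_lit 7, nat_lit 6, nat_lit 7, nat_lit 5, nat_lit 6, nat_lit 7, nat_lit 6, nat_lit 5, nat_lit 6, nat_lit 7, nat_lit 4, nat_lit 6, nat_lit 5, nat_lit 6, nat_lit 7, nat_lit 4, nat_lit 6, nat_lit 5, nat_lit 6, nat_lit 7, nat_lit 6])) (TL.node (TL.leaf [nat_lit 14339, nat_lit 6, nat_lit 0, nat_lit 6, nat_lit 0]) (TL.leaf [nat_lit 38919, nat_lit 5, nat_lit 6, nat_lit 3, nat_lit 7, nat_lit 6, nat_lit 5, nat_lit 6, nat_lit 7, nat_lit 5, nat_lit 6, nat_lit 7, nat_lit 5, nat_lit 6, nat_lit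 5, nat_lit 6, nat_lit 7, nat_lit 0, nat_lit 2, nat_lit 5, nat_lit 6, nat_lit 5, nat_lit 6, nat_lit 5, nat_lit 6, nat_lit 5, nat_lit 6, nat_lit 3, nat_lit 5, nat_lit 6, nat_lit 5, nat_lit 6, nat_lit 5, nat_lit 6, nat_lit 3, nat_lit 6, nat_lit 7, nat_lit 4, nat_lit 6]))) (TL.node (TL.node (TL.leaf [nat_lit 6146, nat_lit 4, nat_lit 3, nat_lit 4, nat_lit 3]) (TL.leaf [nat_lit 8194, nat_lit 5, nat_lit 2, nat_lit 0, nat_lit 5, nat_lit 2, nat_lit 0])) (TL.node (TL.leaf [nat_lit 12295, nat_lit 4, nat_lit 0, nat_lit 3, nat_lit 5, nat_lit 4, nat_lit 5]) (TL.leaf [nat_lit 40982, nat_lit 5, nat_lit 7, nat_lit 6, nat_lit 7, nat_lit 6, nat_lit 5, nat_lit 6, nat_lit 7, nat_lit 6, nat_lit 5, nat_lit 6, nat_lit 4, nat_lit 7, nat_lit 6, nat_lit 5, nat_lit 6, nat_lit 4, nat_lit 7, nat_lit 6, nat_lit 5, nat_lit 6, nat_lit 7, nat_lit 6]))))) (TL.node (TL.node (TL.node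 (TL.node (TL.leaf [nat_lit 26625, nat_lit 4, nat_lit 7, nat_lit 4, nat_lit 7, nat_lit 4, nat_lit 7, nat_lit 4, nat_lit 7]) (TL.leaf [nat_lit 12296, nat_lit 5, nat_lit 4, nat_lit 5, nat_lit 2, nat_lit 0, nat_lit 4])) (TL.node (TL.leaf [nat_lit 32773, nat_lit 7, nat_lit 6, nat_lit 7, nat_lit 6, nat_lit 7, nat_lit 0, nat_lit 6, nat_lit 7, nat_lit 6]) (TL.leaf [nat_lit 20520, nat_lit 5, nat_lit 3, nat_lit 6, nat_lit 5, nat_lit 6, nat_lit 5, nat_lit 6, nat_lit 5, nat_lit 6, nat_lit 5, nat_lit 2, nat_lit 6, nat_lit 5, nat_lit 6, nat_lit 3, nat_lit 5, nat_lit 6, nat_lit 5, nat_lit 6, nat_lit 5, nat_lit 6, nat_lit 5, nat_lit 6, nat_lit 5, nat_lit 2, nat_lit 6, nat_lit 5, nat_lit 6]))) (TL.node (TL.node (TL.leaf [nat_lit 18439, nat_lit 4, nat_lit 6, nat_lit 1, nat_lit 6]) (TL.leaf [nat_lit 40987, nat_lit 6, nat_lit 7, nat_lit 6, nat_lit 5, nat_lit 6, nat_lit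 7, nat_lit 4, nat_lit 6, nat_lit 5, nat_lit 6, nat_lit 7, nat_lit 4, nat_lit 6, nat_lit 5, nat_lit 6, nat_lit 7, nat_lit 6, nat_lit 5, nat_lit 6, nat_lit 7, nat_lit 6, nat_lit 7, nat_lit 5])) (TL.node (TL.leaf [nat_lit 12294, nat_lit 4, nat_lit 5, nat_lit 4, nat_lit 5, nat_lit 2, nat_lit 0]) (TL.leaf [nat_lit 20507, nat_lit 5, nat_lit 6, nat_lit 5, nat_lit 6, nat_lit 5, nat_lit 6, nat_lit 5, nat_lit 6, nat_lit 5, nat_lit 2, nat_lit 6, nat_lit 5, nat_lit 6, nat_lit 3, nat_lit 5, nat_lit 6, nat_lit 5, nat_lit 6, nat_lit 5, nat_lit 6, nat_lit 5, nat_lit 6, nat_lit 2, nat_lit 5, nat_lit 6, nat_lit 5, nat_lit 6, nat_lit 3])))) (TL.node (TL.node (TL.node (TL.leaf [nat_lit 6148, nat_lit 2, nat_lit 4, nat_lit 3, nat_lit 4]) (TL.leaf [nat_lit 10250, nat_lit 5, nat_lit 0, nat_lit 1, nat_lit 5, nat_lit 0])) (TL.node (TL.leaf [nat_lit 36881, nat_lit 7, nat_lit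 6, nat_lit 5, nat_lit 6, nat_lit 5, nat_lit 6, nat_lit 4, nat_lit 7, nat_lit 5, nat_lit 4, nat_lit 6, nat_lit 5, nat_lit 6, nat_lit 5, nat_lit 6, nat_lit 2, nat_lit 5, nat_lit 7, nat_lit 4, nat_lit 6, nat_lit 5, nat_lit 7, nat_lit 6, nat_lit 3, nat_lit 5]) (TL.leaf [nat_lit 38980, nat_lit 6, nat_lit 5, nat_lit 6, nat_lit 4, nat_lit 7, nat_lit 6, nat_lit 2, nat_lit 6, nat_lit 5, nat_lit 6, nat_lit 5, nat_lit 6, nat_lit 5, nat_lit 2, nat_lit 6, nat_lit 5, nat_lit 6, nat_lit 5, nat_lit 6, nat_lit 5, nat_lit 6, nat_lit 5, nat_lit 3, nat_lit 0, nat_lit 7, nat_lit 6, nat_lit 5, nat_lit 6, nat_lit 5, nat_lit 7, nat_lit 6, nat_lit 5, nat_lit 7, nat_lit 6, nat_lit 5, nat_lit 6, nat_lit 7, nat_lit 2]))) (TL.node (TL.node (TL.leaf [nat_lit 18433, nat_lit 6, nat_lit 1, nat_lit 6, nat_lit 4]) (TL.leaf [nat_lit 36889, nat_lit 5, nat_lit 6, nat_lit 4, nat_lit 7,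 nat_lit 5, nat_lit 4, nat_lit 6, nat_lit 5, nat_lit 6, nat_lit 5, nat_lit 6, nat_lit 2, nat_lit 5, nat_lit 7, nat_lit 4, nat_lit 6, nat_lit 5, nat_lit 7, nat_lit 6, nat_lit 3, nat_lit 5, nat_lit 7, nat_lit 6, nat_lit 5, nat_lit 6])) (TL.node (TL.leaf [nat_lit 34837, nat_lit 7, nat_lit 6, nat_lit 5, nat_lit 2, nat_lit 6, nat_lit 7, nat_lit 4, nat_lit 7, nat_lit 6, nat_lit 2, nat_lit 5, nat_lit 7, nat_lit 6, nat_lit 7, nat_lit 4]) (TL.leaf [nat_lit 20495, nat_lit 3, nat_lit 5, nat_lit 6, nat_lit 5, nat_lit 6, nat_lit 3, nat_lit 5, nat_lit 6, nat_lit 5, nat_lit 6, nat_lit 5, nat_lit 6, nat_lit 5, nat_lit 6, nat_lit 5, nat_lit 2, nat_lit 6, nat_lit 5, nat_lit 6, nat_lit 3, nat_lit 5, nat_lit 6, nat_lit 5, nat_lit 6, nat_lit 5, nat_lit 6, nat_lit 5, nat_lit 6]))))))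
def W_t6 : TL := (TL.node W_t4 W_t5)
def W_t : TL := (TL.node W_t3 W_t6)
noncomputable def W (i : ℕ) : List ℕ := TL.get W_t i
def WA_t : TL := (TL.leaf [nat_lit 0])
noncomputable def WA (i : ℕ) : List ℕ := TL.get WA_t i
noncomputable def row : ℕ → ℕ := hRow (nat_lit 1599) (nat_lit 8) (nat_lit 7) (nat_lit 2048) (nat_lit 256) (nat_lit 524288) (nat_lit 32768) (nat_lit 32768) (nat_lit 0) E X Pa inv (wfun (nat_lit 132) W_t)
noncomputable def aux : ℕ → ℕ := hAux (nat_lit 1600) (nat_lit 8) (nat_lit 2048) (nat_lit 524288) (nat_lit 32768) (nat_lit 2) (nat_lit 2) (nat_lit 32768) (nat_lit 0) E X J Pa inv WA_t.get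

end Cfsg.Agent.Ct.T2.L4
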