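import Cfsg.Agent.Lib.Cert.T2.T4.R0

set_option autoImplicit false
set_option maxRecDepth 100000

namespace Cfsg.Agent.Ct.T2.L4

open Cfsg.Agent.PC

theorem rows : ∀ i < 1600, row i = 0 := by
  have h := zero_lt_zero row
  have h := zero_lt_add (a := (nat_lit 0)) (n := (nat_lit 1600)) (b := (nat_lit 1600)) h r0 rfl
  exact h
theorem auxs : ∀ i < 0, aux i = 0 := by
  have h := zero_lt_zero aux
  exact h
theorem closes.{u} : ClosesT.{u} inv rels 8 7 1600 T :=
  hc_closes (N1 := (nat_lit 1599)) rfl T_eq (by decide +kernel) rows auxs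
theorem T_inv : ∀ c < 1600, ∀ j < 8, T j c < 1600 ∧ T (inv j) (T j c) = c := 
  hc_inv (inv := inv) (N1 := (nat_lit 1599)) rfl T_eq rows

end Cfsg.Agent.Ct.T2.L4
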