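import Cfsg.Agent.Lib.Cert.T2.T4.A

set_option autoImplicit false
set_option maxRecDepth 100000

namespace Cfsg.Agent.Ct.T2.L4

open Cfsg.Agent.PC

theorem r0 : Nat.beq (rng row (nat_lit 0) (nat_lit 1600)) (nat_lit 0) = true := by decide +kernel

end Cfsg.Agent.Ct.T2.L4
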